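import Cfsg.Agent.Lib.Chev.Invol.Sound
import Cfsg.Agent.Lib.Chev.CheckE6

/-!
Generated certificates for the classes of involutions of the Chevalley group of type E6 in characteristic two.
-/
set_option autoImplicit false
set_option maxRecDepth 100000

namespace Cfsg.Agent.Chev.Invol.E6

open Cfsg.Lie

/-- Functionals giving multiples of the coefficients of a root. -/
def lam : List (List ℤ) := [[4, 3, 5, 6, 4, 2], [3, 6, 6, 9, 6, 3], [5, 6, 10, 12, 8, 4], [6, 9, 12, 18, 12, 6], [4, 6, 8, 12, 10, 5], [2, 3, 4, 6, 5, 4]]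

/-- The roots of node 0. -/
def roots0 : List ℕ := []

/-- The products of node 0. -/
def reps0 : List (List ℕ) := [[]]

/-- Cases of node 0. -/
def cases0_0 : List JCase :=
  [⟨[], [], 0, .none⟩]

/-- Node 0. -/
def node0 : Node :=
  ⟨[], roots0, 0, reps0, [], cases0_0,
    []⟩

/-- The roots of node 1. -/
def roots1 : List ℕ := [32, 39]

/-- The products of node 1. -/
def reps1 : List (List ℕ) := [[], [39]]

/-- Cases of node 1. -/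
def cases1_0 : List JCase :=
  [⟨[], [], 0, .none⟩,
   ⟨[3], [39], 549755813888, .good ⟨[([], 3)], [39], [3], [], 0, [18, 24, 33, 45, 33, 18], [], 0, [([], 1)]⟩⟩]

/-- Node 1. -/
def node1 : Node :=
  ⟨[3], roots1, 554050781184, reps1, [3], cases1_0,
    [(roots0, reps0)]⟩

/-- The roots of node 2. -/
def roots2 : List ℕ := [27, 28, 29, 31, 32, 34, 37, 39, 40, 42, 43, 44]

/-- The products of node 2. -/
def reps2 : List (List ℕ) := [[], [44], [39, 44]]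

/-- Cases of node 2. -/
def cases2_0 : List JCase :=
  [⟨[], [], 0, .none⟩,
   ⟨[2], [42], 4398046511104, .good ⟨[([], 2)], [42], [2], [(37, 37), (39, 43), (40, 44)], 28174985461760, [19, 27, 35, 51, 37, 20], [4, 3], 0, [([], 1), ([], 2)]⟩⟩,
   ⟨[3], [39], 549755813888, .good ⟨[([], 3)], [39], [3], [(37, 40), (42, 43), (44, 44)], 32023276158976, [18, 24, 33, 45, 33, 18], [4, 2], 0, [([], 1), ([], 2)]⟩⟩,
   ⟨[2, 3], [39, 42, 43], 13743895347200, .bad [2, 3, 2] 2⟩,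
   ⟨[4], [37], 137438953472, .good ⟨[([], 4)], [37], [4], [(39, 40), (42, 42), (43, 44)], 32435593019392, [20, 27, 37, 51, 35, 19], [2, 3], 0, [([], 1), ([], 2)]⟩⟩,
   ⟨[2, 4], [37, 42], 4535485464576, .good ⟨[([], 2), ([], 4)], [42, 37], [2, 4], [(39, 44), (40, 43)], 28037546508288, [15, 21, 27, 39, 27, 15], [2, 3], 1, [([], 2)]⟩⟩,
   ⟨[3, 4], [37, 39, 40], 1786706395136, .bad [3, 4, 3] 3⟩,
   ⟨[2, 3, 4], [37, 39, 40, 42, 43, 44], 32573031972864, .bad [2, 3, 2, 4, 3, 2] 2⟩]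

/-- Node 2. -/
def node2 : Node :=
  ⟨[2, 3, 4], roots2, 32597593817088, reps2, [2, 3, 2, 4, 3, 2], cases2_0,
    [(roots1, reps1), (roots0, reps0)]⟩

/-- The roots of node 3. -/
def roots3 : List ℕ := [11, 12, 13, 14, 15, 26, 27, 28, 29, 30, 31, 32, 33, 34, 35, 36, 37, 38, 39, 40, 41, 42, 43, 44, 45, 56, 57, 58, 59, 60]

/-- The products of node 3. -/
def reps3 : List (List ℕ) := [[], [60], [44, 60], [39, 44, 60]]

/-- Cases of node 3. -/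
def cases3_0 : List JCase :=
  [⟨[], [], 0, .none⟩,
   ⟨[0], [56], 72057594037927936, .good ⟨[([], 0)], [56], [0], [(36, 36), (37, 37), (39, 39), (42, 57), (38, 38), (40, 40), (43, 58), (41, 41), (44, 59), (45, 60)], 2161798121162539008, [20, 30, 40, 57, 41, 22], [5, 4, 3, 2], 0, [([], 1), ([], 2), ([], 3)]⟩⟩,
   ⟨[2], [42], 4398046511104, .good ⟨[([], 2)], [42], [2], [(36, 36), (37, 37), (39, 43), (56, 57), (38, 38), (40, 44), (58, 58), (41, 45), (59, 59), (60, 60)], 2233851317153955840, [19, 27, 35, 51, 37, 20], [5, 4, 3, 0], 0, [([], 1), ([], 2), ([], 3)]⟩⟩,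
   ⟨[0, 2], [42, 56, 57], 216177180160294912, .bad [0, 2, 0] 0⟩,
   ⟨[3], [39], 549755813888, .good ⟨[([], 3)], [39], [3], [(36, 36), (37, 40), (42, 43), (56, 56), (38, 41), (44, 44), (57, 58), (45, 45), (59, 59), (60, 60)], 2233855165444653056, [18, 24, 33, 45, 33, 18], [5, 4, 0, 2], 0, [([], 1), ([], 2), ([], 3)]⟩⟩,
   ⟨[0, 3], [39, 56], 72058143793741824, .good ⟨[([], 0), ([], 3)], [56, 39], [0, 3], [(36, 36), (37, 40), (42, 58), (43, 57), (38, 41), (44, 59), (45, 60)], 2161797571406725120, [14, 21, 28, 39, 29, 16], [4, 5, 3, 4, 0, 2], 1, [([], 2), ([], 3)]⟩⟩,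
   ⟨[2, 3], [39, 42, 43], 13743895347200, .bad [2, 3, 2] 2⟩,
   ⟨[0, 2, 3], [39, 42, 43, 56, 57, 58], 504416902160842752, .bad [0, 2, 0, 3, 2, 0] 0⟩,
   ⟨[4], [37], 137438953472, .good ⟨[([], 4)], [37], [4], [(36, 38), (39, 40), (42, 42), (56, 56), (41, 41), (43, 44), (57, 57), (45, 45), (58, 59), (60, 60)], 2233855577761513472, [20, 27, 37, 51, 35, 19], [5, 0, 2, 3], 0, [([], 1), ([], 2), ([], 3)]⟩⟩,
   ⟨[0, 4], [37, 56], 72057731476881408, .good ⟨[([], 0), ([], 4)], [56, 37], [0, 4], [(36, 38), (39, 40), (42, 57), (41, 41), (43, 59), (44, 58), (45, 60)], 2161797983723585536, [16, 24, 32, 45, 31, 17], [4, 5, 0, 2, 3, 2], 1, [([], 2), ([], 3)]⟩⟩,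
   ⟨[2, 4], [37, 42], 4535485464576, .good ⟨[([], 2), ([], 4)], [42, 37], [2, 4], [(36, 38), (39, 44), (40, 43), (56, 57), (41, 45), (58, 59), (60, 60)], 2233851179715002368, [15, 21, 27, 39, 27, 15], [4, 5, 0, 2, 3, 0], 1, [([], 2), ([], 3)]⟩⟩,
   ⟨[0, 2, 4], [37, 42, 56, 57], 216177317599248384, .bad [0, 2, 0, 4] 0⟩,
   ⟨[3, 4], [37, 39, 40], 1786706395136, .bad [3, 4, 3] 3⟩,
   ⟨[0, 3, 4], [37, 39, 40, 56], 72059380744323072, .bad [0, 3, 4, 3] 3⟩,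
   ⟨[2, 3, 4], [37, 39, 40, 42, 43, 44], 32573031972864, .bad [2, 3, 2, 4, 3, 2] 2⟩,
   ⟨[0, 2, 3, 4], [37, 39, 40, 42, 43, 44, 56, 57, 58, 59], 1080896483600891904, .bad [0, 2, 0, 3, 2, 0, 4, 3, 2, 0] 0⟩]

/-- Cases of node 3. -/
def cases3_1 : List JCase :=
  [⟨[5], [36], 68719476736, .good ⟨[([], 5)], [36], [5], [(37, 38), (39, 39), (42, 42), (56, 56), (40, 41), (43, 43), (57, 57), (44, 45), (58, 58), (59, 60)], 2233855646480990208, [22, 30, 41, 57, 40, 20], [0, 2, 3, 4], 0, [([], 1), ([], 2), ([], 3)]⟩⟩,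
   ⟨[0, 5], [36, 56], 72057662757404672, .good ⟨[([], 0), ([], 5)], [56, 36], [0, 5], [(37, 38), (39, 39), (42, 57), (40, 41), (43, 58), (44, 60), (45, 59)], 2161798052443062272, [18, 27, 36, 51, 36, 18], [0, 2, 3, 4, 3, 2], 1, [([], 2), ([], 3)]⟩⟩,
   ⟨[2, 5], [36, 42], 4466765987840, .good ⟨[([], 2), ([], 5)], [42, 36], [2, 5], [(37, 38), (39, 43), (56, 57), (40, 45), (41, 44), (58, 58), (59, 60)], 2233851248434479104, [17, 24, 31, 45, 32, 16], [0, 2, 3, 4, 3, 0], 1, [([], 2), ([], 3)]⟩⟩,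
   ⟨[0, 2, 5], [36, 42, 56, 57], 216177248879771648, .bad [0, 2, 0, 5] 0⟩,
   ⟨[3, 5], [36, 39], 618475290624, .good ⟨[([], 3), ([], 5)], [39, 36], [3, 5], [(37, 41), (38, 40), (42, 43), (56, 56), (44, 45), (57, 58), (59, 60)], 2233855096725176320, [16, 21, 29, 39, 28, 14], [0, 2, 3, 4, 0, 2], 1, [([], 2), ([], 3)]⟩⟩,
   ⟨[0, 3, 5], [36, 39, 56], 72058212513218560, .good ⟨[([], 0), ([], 3), ([], 5)], [56, 39, 36], [0, 3, 5], [(37, 41), (38, 40), (42, 58), (43, 57), (44, 60), (45, 59)], 2161797502687248384, [12, 18, 24, 33, 24, 12], [0, 2, 3, 4, 0, 2], 2, [([], 3)]⟩⟩,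
   ⟨[2, 3, 5], [36, 39, 42, 43], 13812614823936, .bad [2, 3, 2, 5] 2⟩,
   ⟨[0, 2, 3, 5], [36, 39, 42, 43, 56, 57, 58], 504416970880319488, .bad [0, 2, 0, 3, 2, 0, 5] 0⟩,
   ⟨[4, 5], [36, 37, 38], 481036337152, .bad [4, 5, 4] 4⟩,
   ⟨[0, 4, 5], [36, 37, 38, 56], 72058075074265088, .bad [0, 4, 5, 4] 4⟩,
   ⟨[2, 4, 5], [36, 37, 38, 42], 4879082848256, .bad [2, 4, 5, 4] 4⟩,
   ⟨[0, 2, 4, 5], [36, 37, 38, 42, 56, 57], 216177661196632064, .bad [0, 2, 0, 4, 5, 4] 0⟩,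
   ⟨[3, 4, 5], [36, 37, 38, 39, 40, 41], 4329327034368, .bad [3, 4, 3, 5, 4, 3] 3⟩,
   ⟨[0, 3, 4, 5], [36, 37, 38, 39, 40, 41, 56], 72061923364962304, .bad [0, 3, 4, 3, 5, 4, 3] 3⟩,
   ⟨[2, 3, 4, 5], [36, 37, 38, 39, 40, 41, 42, 43, 44, 45], 70300024700928, .bad [2, 3, 2, 4, 3, 2, 5, 4, 3, 2] 2⟩,
   ⟨[0, 2, 3, 4, 5], [36, 37, 38, 39, 40, 41, 42, 43, 44, 45, 56, 57, 58, 59, 60], 2233855715200466944, .bad [0, 2, 0, 3, 2, 0, 4, 3, 2, 0, 5, 4, 3, 2, 0] 0⟩]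

/-- Node 3. -/
def node3 : Node :=
  ⟨[0, 2, 3, 4, 5], roots3, 2233855783852898304, reps3, [0, 2, 0, 3, 2, 0, 4, 3, 2, 0, 5, 4, 3, 2, 0], cases3_0 ++ cases3_1,
    [(roots2, reps2), (roots1, reps1), (roots0, reps0)]⟩

/-- The roots of node 4. -/
def roots4 : List ℕ := [0, 1, 2, 3, 4, 5, 6, 7, 8, 9, 10, 11, 12, 13, 14, 15, 16, 17, 18, 19, 20, 21, 22, 23, 24, 25, 26, 27, 28, 29, 30, 31, 32, 33, 34, 35, 36, 37, 38, 39, 40, 41, 42, 43, 44, 45, 46, 47, 48, 49, 50, 51, 52, 53, 54, 55, 56, 57, 58, 59, 60, 61, 62, 63, 64, 65, 66, 67, 68, 69, 70, 71]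

/-- The products of node 4. -/
def reps4 : List (List ℕ) := [[], [71], [60, 71], [44, 60, 71], [39, 44, 60, 71]]

/-- Cases of node 4. -/
def cases4_0 : List JCase :=
  [⟨[], [], 0, .none⟩,
   ⟨[0], [56], 72057594037927936, .good ⟨[([], 0)], [56], [0], [(36, 36), (37, 37), (39, 39), (42, 57), (46, 46), (38, 38), (40, 40), (43, 58), (47, 47), (41, 41), (44, 59), (48, 48), (50, 61), (45, 60), (49, 49), (51, 62), (52, 63), (53, 64), (54, 65), (67, 67), (55, 66), (68, 68), (69, 69), (70, 70), (71, 71)], 4722294425206887809024, [20, 30, 40, 57, 41, 22], [1, 3, 4, 5, 2, 3, 4, 1, 3, 2], 0, [([], 1), ([], 2), ([], 3), ([], 4)]⟩⟩,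
   ⟨[1], [46], 70368744177664, .good ⟨[([], 1)], [46], [1], [(36, 36), (37, 37), (39, 47), (42, 42), (56, 56), (38, 38), (40, 48), (43, 50), (57, 57), (41, 49), (44, 51), (58, 61), (45, 52), (53, 53), (59, 62), (54, 54), (60, 63), (64, 64), (55, 55), (65, 65), (67, 67), (66, 66), (68, 68), (69, 69), (70, 71)], 4722366412432181559296, [21, 27, 39, 54, 39, 21], [1, 3, 4, 5, 2, 3, 4, 0, 2, 3], 0, [([], 1), ([], 2), ([], 3), ([], 4)]⟩⟩,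
   ⟨[0, 1], [46, 56], 72127962782105600, .good ⟨[([], 0), ([], 1)], [56, 46], [0, 1], [(36, 36), (37, 37), (39, 47), (42, 57), (38, 38), (40, 48), (43, 61), (50, 58), (41, 49), (44, 62), (51, 59), (45, 63), (52, 60), (53, 64), (54, 65), (67, 67), (55, 66), (68, 68), (69, 69), (70, 71)], 4722294354838143631360, [17, 24, 34, 48, 35, 19], [0, 2, 1, 3, 4, 5, 2, 1, 3, 4, 0, 2, 3, 2], 1, [([], 2), ([], 3), ([], 4)]⟩⟩,
   ⟨[2], [42], 4398046511104, .good ⟨[([], 2)], [42], [2], [(36, 36), (37, 37), (39, 43), (46, 46), (56, 57), (38, 38), (40, 44), (47, 50), (58, 58), (41, 45), (48, 51), (59, 59), (61, 61), (49, 52), (53, 53), (60, 60), (62, 62), (54, 54), (63, 63), (64, 67), (55, 55), (65, 68), (66, 69), (70, 70), (71, 71)], 4722366478402879225856, [19, 27, 35, 51, 37, 20], [1, 3, 4, 5, 2, 3, 4, 1, 3, 0], 0, [([], 1), ([], 2), ([], 3), ([], 4)]⟩⟩,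
   ⟨[0, 2], [42, 56, 57], 216177180160294912, .bad [0, 2, 0] 0⟩,
   ⟨[1, 2], [42, 46], 74766790688768, .good ⟨[([], 1), ([], 2)], [46, 42], [1, 2], [(36, 36), (37, 37), (39, 50), (43, 47), (56, 57), (38, 38), (40, 51), (44, 48), (58, 61), (41, 52), (45, 49), (53, 53), (59, 62), (54, 54), (60, 63), (64, 67), (55, 55), (65, 68), (66, 69), (70, 71)], 4722366408034135048192, [16, 21, 29, 42, 31, 17], [0, 2, 1, 3, 4, 5, 2, 1, 3, 4, 2, 1, 3, 0], 1, [([], 2), ([], 3), ([], 4)]⟩⟩,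
   ⟨[0, 1, 2], [42, 46, 56, 57], 216247548904472576, .bad [0, 1, 2, 0] 0⟩,
   ⟨[3], [39], 549755813888, .good ⟨[([], 3)], [39], [3], [(36, 36), (37, 40), (42, 43), (46, 47), (56, 56), (38, 41), (44, 44), (48, 48), (50, 50), (57, 58), (45, 45), (49, 49), (51, 53), (59, 59), (61, 61), (52, 54), (60, 60), (62, 64), (55, 55), (63, 65), (67, 67), (66, 66), (68, 68), (69, 70), (71, 71)], 4722366482251169923072, [18, 24, 33, 45, 33, 18], [1, 3, 4, 5, 2, 3, 4, 0, 2, 1], 0, [([], 1), ([], 2), ([], 3), ([], 4)]⟩⟩,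
   ⟨[0, 3], [39, 56], 72058143793741824, .good ⟨[([], 0), ([], 3)], [56, 39], [0, 3], [(36, 36), (37, 40), (42, 58), (43, 57), (46, 47), (38, 41), (44, 59), (48, 48), (50, 61), (45, 60), (49, 49), (51, 64), (53, 62), (52, 65), (54, 63), (67, 67), (55, 66), (68, 68), (69, 70), (71, 71)], 4722294424657131995136, [14, 21, 28, 39, 29, 16], [0, 2, 1, 3, 4, 5, 2, 1, 3, 4, 3, 0, 2, 1], 1, [([], 2), ([], 3), ([], 4)]⟩⟩,
   ⟨[1, 3], [39, 46, 47], 211655988346880, .bad [1, 3, 1] 1⟩,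
   ⟨[0, 1, 3], [39, 46, 47, 56], 72269250026274816, .bad [0, 1, 3, 1] 1⟩,
   ⟨[2, 3], [39, 42, 43], 13743895347200, .bad [2, 3, 2] 2⟩,
   ⟨[0, 2, 3], [39, 42, 43, 56, 57, 58], 504416902160842752, .bad [0, 2, 0, 3, 2, 0] 0⟩,
   ⟨[1, 2, 3], [39, 42, 43, 46, 47, 50], 1350750034722816, .bad [1, 2, 3, 1, 2, 3] 1⟩,
   ⟨[0, 1, 2, 3], [39, 42, 43, 46, 47, 50, 56, 57, 58, 61], 2811596917513912320, .bad [0, 1, 2, 0, 3, 1, 2, 0, 3, 2] 0⟩]

/-- Cases of node 4. -/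
def cases4_1 : List JCase :=
  [⟨[4], [37], 137438953472, .good ⟨[([], 4)], [37], [4], [(36, 38), (39, 40), (42, 42), (46, 46), (56, 56), (41, 41), (43, 44), (47, 48), (57, 57), (45, 45), (49, 49), (50, 51), (58, 59), (52, 52), (53, 53), (60, 60), (61, 62), (54, 55), (63, 63), (64, 64), (65, 66), (67, 67), (68, 69), (70, 70), (71, 71)], 4722366482663486783488, [20, 27, 37, 51, 35, 19], [1, 3, 4, 5, 2, 3, 0, 2, 1, 3], 0, [([], 1), ([], 2), ([], 3), ([], 4)]⟩⟩,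
   ⟨[0, 4], [37, 56], 72057731476881408, .good ⟨[([], 0), ([], 4)], [56, 37], [0, 4], [(36, 38), (39, 40), (42, 57), (46, 46), (41, 41), (43, 59), (44, 58), (47, 48), (45, 60), (49, 49), (50, 62), (51, 61), (52, 63), (53, 64), (54, 66), (55, 65), (67, 67), (68, 69), (70, 70), (71, 71)], 4722294425069448855552, [16, 24, 32, 45, 31, 17], [0, 2, 1, 3, 4, 5, 4, 2, 3, 0, 2, 1, 3, 2], 1, [([], 2), ([], 3), ([], 4)]⟩⟩,
   ⟨[1, 4], [37, 46], 70506183131136, .good ⟨[([], 1), ([], 4)], [46, 37], [1, 4], [(36, 38), (39, 48), (40, 47), (42, 42), (56, 56), (41, 49), (43, 51), (44, 50), (57, 57), (45, 52), (53, 53), (58, 62), (59, 61), (54, 55), (60, 63), (64, 64), (65, 66), (67, 67), (68, 69), (70, 71)], 4722366412294742605824, [17, 21, 31, 42, 29, 16], [5, 4, 3, 2, 1, 3, 4, 5, 2, 3, 0, 2, 1, 3], 1, [([], 2), ([], 3), ([], 4)]⟩⟩,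
   ⟨[0, 1, 4], [37, 46, 56], 72128100221059072, .good ⟨[([], 0), ([], 1), ([], 4)], [56, 46, 37], [0, 1, 4], [(36, 38), (39, 48), (40, 47), (42, 57), (41, 49), (43, 62), (44, 61), (50, 59), (51, 58), (45, 63), (52, 60), (53, 64), (54, 66), (55, 65), (67, 67), (68, 69), (70, 71)], 4722294354700704677888, [13, 18, 26, 36, 25, 14], [5, 4, 3, 2, 1, 3, 4, 5, 4, 2, 3, 0, 2, 1, 3, 2], 2, [([], 3), ([], 4)]⟩⟩,
   ⟨[2, 4], [37, 42], 4535485464576, .good ⟨[([], 2), ([], 4)], [42, 37], [2, 4], [(36, 38), (39, 44), (40, 43), (46, 46), (56, 57), (41, 45), (47, 51), (48, 50), (58, 59), (49, 52), (53, 53), (60, 60), (61, 62), (54, 55), (63, 63), (64, 67), (65, 69), (66, 68), (70, 70), (71, 71)], 4722366478265440272384, [15, 21, 27, 39, 27, 15], [0, 2, 1, 3, 4, 5, 4, 2, 3, 0, 2, 1, 3, 0], 1, [([], 2), ([], 3), ([], 4)]⟩⟩,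
   ⟨[0, 2, 4], [37, 42, 56, 57], 216177317599248384, .bad [0, 2, 0, 4] 0⟩,
   ⟨[1, 2, 4], [37, 42, 46], 74904229642240, .good ⟨[([], 1), ([], 2), ([], 4)], [46, 42, 37], [1, 2, 4], [(36, 38), (39, 51), (40, 50), (43, 48), (44, 47), (56, 57), (41, 52), (45, 49), (53, 53), (58, 62), (59, 61), (54, 55), (60, 63), (64, 67), (65, 69), (66, 68), (70, 71)], 4722366407896696094720, [12, 15, 21, 30, 21, 12], [4, 3, 0, 2, 1, 3, 4, 5, 4, 2, 3, 0, 2, 1, 3, 0], 2, [([], 3), ([], 4)]⟩⟩,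
   ⟨[0, 1, 2, 4], [37, 42, 46, 56, 57], 216247686343426048, .bad [0, 1, 2, 0, 4] 0⟩,
   ⟨[3, 4], [37, 39, 40], 1786706395136, .bad [3, 4, 3] 3⟩,
   ⟨[0, 3, 4], [37, 39, 40, 56], 72059380744323072, .bad [0, 3, 4, 3] 3⟩,
   ⟨[1, 3, 4], [37, 39, 40, 46, 47, 48], 494367915638784, .bad [1, 3, 1, 4, 3, 1] 1⟩,
   ⟨[0, 1, 3, 4], [37, 39, 40, 46, 47, 48, 56], 72551961953566720, .bad [0, 1, 3, 1, 4, 3, 1] 1⟩,
   ⟨[2, 3, 4], [37, 39, 40, 42, 43, 44], 32573031972864, .bad [2, 3, 2, 4, 3, 2] 2⟩,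
   ⟨[0, 2, 3, 4], [37, 39, 40, 42, 43, 44, 56, 57, 58, 59], 1080896483600891904, .bad [0, 2, 0, 3, 2, 0, 4, 3, 2, 0] 0⟩,
   ⟨[1, 2, 3, 4], [37, 39, 40, 42, 43, 44, 46, 47, 48, 50, 51, 53], 12910053216485376, .good ⟨[([3, 1, 2, 3], 4), ([], 1), ([], 2), ([], 4)], [53, 46, 42, 37], [3, 1, 2, 3, 4, 3, 2, 1, 3, 1, 2, 4], [(36, 55), (38, 54), (41, 52), (45, 49), (56, 67), (57, 64), (58, 62), (59, 61), (60, 71), (63, 70), (65, 69), (66, 68)], 4722353572747709251584, [6, 6, 9, 12, 9, 6], [4, 3, 0, 2, 1, 3, 4, 5, 4, 2, 3, 0, 2, 1, 3, 0], 3, [([], 4)]⟩⟩,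
   ⟨[0, 1, 2, 3, 4], [37, 39, 40, 42, 43, 44, 46, 47, 48, 50, 51, 53, 56, 57, 58, 59, 61, 62, 64, 67], 174031999654812450816, .bad [0, 1, 2, 0, 3, 1, 2, 0, 3, 2, 4, 3, 1, 2, 0, 3, 2, 4, 3, 1] 1⟩]

/-- Cases of node 4. -/
def cases4_2 : List JCase :=
  [⟨[5], [36], 68719476736, .good ⟨[([], 5)], [36], [5], [(37, 38), (39, 39), (42, 42), (46, 46), (56, 56), (40, 41), (43, 43), (47, 47), (57, 57), (44, 45), (48, 49), (50, 50), (58, 58), (51, 52), (59, 60), (61, 61), (53, 54), (62, 63), (55, 55), (64, 65), (66, 66), (67, 68), (69, 69), (70, 70), (71, 71)], 4722366482732206260224, [22, 30, 41, 57, 40, 20], [1, 3, 4, 2, 3, 0, 2, 1, 3, 4], 0, [([], 1), ([], 2), ([], 3), ([], 4)]⟩⟩,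
   ⟨[0, 5], [36, 56], 72057662757404672, .good ⟨[([], 0), ([], 5)], [56, 36], [0, 5], [(37, 38), (39, 39), (42, 57), (46, 46), (40, 41), (43, 58), (47, 47), (44, 60), (45, 59), (48, 49), (50, 61), (51, 63), (52, 62), (53, 65), (54, 64), (55, 66), (67, 68), (69, 69), (70, 70), (71, 71)], 4722294425138168332288, [18, 27, 36, 51, 36, 18], [5, 1, 3, 4, 2, 3, 0, 2, 1, 3, 4, 1, 3, 2], 1, [([], 2), ([], 3), ([], 4)]⟩⟩,
   ⟨[1, 5], [36, 46], 70437463654400, .good ⟨[([], 1), ([], 5)], [46, 36], [1, 5], [(37, 38), (39, 47), (42, 42), (56, 56), (40, 49), (41, 48), (43, 50), (57, 57), (44, 52), (45, 51), (58, 61), (53, 54), (59, 63), (60, 62), (55, 55), (64, 65), (66, 66), (67, 68), (69, 69), (70, 71)], 4722366412363462082560, [19, 24, 35, 48, 34, 17], [5, 1, 3, 4, 2, 3, 0, 2, 1, 3, 4, 0, 2, 3], 1, [([], 2), ([], 3), ([], 4)]⟩⟩,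
   ⟨[0, 1, 5], [36, 46, 56], 72128031501582336, .good ⟨[([], 0), ([], 1), ([], 5)], [56, 46, 36], [0, 1, 5], [(37, 38), (39, 47), (42, 57), (40, 49), (41, 48), (43, 61), (50, 58), (44, 63), (45, 62), (51, 60), (52, 59), (53, 65), (54, 64), (55, 66), (67, 68), (69, 69), (70, 71)], 4722294354769424154624, [15, 21, 30, 42, 30, 15], [4, 5, 1, 3, 4, 2, 3, 0, 2, 1, 3, 4, 0, 2, 3, 2], 2, [([], 3), ([], 4)]⟩⟩,
   ⟨[2, 5], [36, 42], 4466765987840, .good ⟨[([], 2), ([], 5)], [42, 36], [2, 5], [(37, 38), (39, 43), (46, 46), (56, 57), (40, 45), (41, 44), (47, 50), (58, 58), (48, 52), (49, 51), (59, 60), (61, 61), (53, 54), (62, 63), (55, 55), (64, 68), (65, 67), (66, 69), (70, 70), (71, 71)], 4722366478334159749120, [17, 24, 31, 45, 32, 16], [5, 1, 3, 4, 2, 3, 0, 2, 1, 3, 4, 1, 3, 0], 1, [([], 2), ([], 3), ([], 4)]⟩⟩,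
   ⟨[0, 2, 5], [36, 42, 56, 57], 216177248879771648, .bad [0, 2, 0, 5] 0⟩,
   ⟨[1, 2, 5], [36, 42, 46], 74835510165504, .good ⟨[([], 1), ([], 2), ([], 5)], [46, 42, 36], [1, 2, 5], [(37, 38), (39, 50), (43, 47), (56, 57), (40, 52), (41, 51), (44, 49), (45, 48), (58, 61), (53, 54), (59, 63), (60, 62), (55, 55), (64, 68), (65, 67), (66, 69), (70, 71)], 4722366407965415571456, [14, 18, 25, 36, 26, 13], [4, 5, 1, 3, 4, 2, 3, 0, 2, 1, 3, 4, 2, 1, 3, 0], 2, [([], 3), ([], 4)]⟩⟩,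
   ⟨[0, 1, 2, 5], [36, 42, 46, 56, 57], 216247617623949312, .bad [0, 1, 2, 0, 5] 0⟩,
   ⟨[3, 5], [36, 39], 618475290624, .good ⟨[([], 3), ([], 5)], [39, 36], [3, 5], [(37, 41), (38, 40), (42, 43), (46, 47), (56, 56), (44, 45), (48, 49), (50, 50), (57, 58), (51, 54), (52, 53), (59, 60), (61, 61), (55, 55), (62, 65), (63, 64), (66, 66), (67, 68), (69, 70), (71, 71)], 4722366482182450446336, [16, 21, 29, 39, 28, 14], [5, 1, 3, 4, 2, 3, 0, 2, 1, 3, 4, 0, 2, 1], 1, [([], 2), ([], 3), ([], 4)]⟩⟩,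
   ⟨[0, 3, 5], [36, 39, 56], 72058212513218560, .good ⟨[([], 0), ([], 3), ([], 5)], [56, 39, 36], [0, 3, 5], [(37, 41), (38, 40), (42, 58), (43, 57), (46, 47), (44, 60), (45, 59), (48, 49), (50, 61), (51, 65), (52, 64), (53, 63), (54, 62), (55, 66), (67, 68), (69, 70), (71, 71)], 4722294424588412518400, [12, 18, 24, 33, 24, 12], [4, 5, 1, 3, 4, 2, 3, 0, 2, 1, 3, 4, 3, 0, 2, 1], 2, [([], 3), ([], 4)]⟩⟩,
   ⟨[1, 3, 5], [36, 39, 46, 47], 211724707823616, .bad [1, 3, 1, 5] 1⟩,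
   ⟨[0, 1, 3, 5], [36, 39, 46, 47, 56], 72269318745751552, .bad [0, 1, 3, 1, 5] 1⟩,
   ⟨[2, 3, 5], [36, 39, 42, 43], 13812614823936, .bad [2, 3, 2, 5] 2⟩,
   ⟨[0, 2, 3, 5], [36, 39, 42, 43, 56, 57, 58], 504416970880319488, .bad [0, 2, 0, 3, 2, 0, 5] 0⟩,
   ⟨[1, 2, 3, 5], [36, 39, 42, 43, 46, 47, 50], 1350818754199552, .bad [1, 2, 3, 1, 2, 3, 5] 1⟩,
   ⟨[0, 1, 2, 3, 5], [36, 39, 42, 43, 46, 47, 50, 56, 57, 58, 61], 2811596986233389056, .bad [0, 1, 2, 0, 3, 1, 2, 0, 3, 2, 5] 0⟩]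

/-- Cases of node 4. -/
def cases4_3 : List JCase :=
  [⟨[4, 5], [36, 37, 38], 481036337152, .bad [4, 5, 4] 4⟩,
   ⟨[0, 4, 5], [36, 37, 38, 56], 72058075074265088, .bad [0, 4, 5, 4] 4⟩,
   ⟨[1, 4, 5], [36, 37, 38, 46], 70849780514816, .bad [1, 4, 5, 4] 4⟩,
   ⟨[0, 1, 4, 5], [36, 37, 38, 46, 56], 72128443818442752, .bad [0, 1, 4, 5, 4] 4⟩,
   ⟨[2, 4, 5], [36, 37, 38, 42], 4879082848256, .bad [2, 4, 5, 4] 4⟩,
   ⟨[0, 2, 4, 5], [36, 37, 38, 42, 56, 57], 216177661196632064, .bad [0, 2, 0, 4, 5, 4] 0⟩,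
   ⟨[1, 2, 4, 5], [36, 37, 38, 42, 46], 75247827025920, .bad [1, 2, 4, 5, 4] 4⟩,
   ⟨[0, 1, 2, 4, 5], [36, 37, 38, 42, 46, 56, 57], 216248029940809728, .bad [0, 1, 2, 0, 4, 5, 4] 0⟩,
   ⟨[3, 4, 5], [36, 37, 38, 39, 40, 41], 4329327034368, .bad [3, 4, 3, 5, 4, 3] 3⟩,
   ⟨[0, 3, 4, 5], [36, 37, 38, 39, 40, 41, 56], 72061923364962304, .bad [0, 3, 4, 3, 5, 4, 3] 3⟩,
   ⟨[1, 3, 4, 5], [36, 37, 38, 39, 40, 41, 46, 47, 48, 49], 1059860489699328, .bad [1, 3, 1, 4, 3, 1, 5, 4, 3, 1] 1⟩,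
   ⟨[0, 1, 3, 4, 5], [36, 37, 38, 39, 40, 41, 46, 47, 48, 49, 56], 73117454527627264, .bad [0, 1, 3, 1, 4, 3, 1, 5, 4, 3, 1] 1⟩,
   ⟨[2, 3, 4, 5], [36, 37, 38, 39, 40, 41, 42, 43, 44, 45], 70300024700928, .bad [2, 3, 2, 4, 3, 2, 5, 4, 3, 2] 2⟩,
   ⟨[0, 2, 3, 4, 5], [36, 37, 38, 39, 40, 41, 42, 43, 44, 45, 56, 57, 58, 59, 60], 2233855715200466944, .bad [0, 2, 0, 3, 2, 0, 4, 3, 2, 0, 5, 4, 3, 2, 0] 0⟩,
   ⟨[1, 2, 3, 4, 5], [36, 37, 38, 39, 40, 41, 42, 43, 44, 45, 46, 47, 48, 49, 50, 51, 52, 53, 54, 55], 72057525318451200, .bad [1, 2, 3, 1, 2, 3, 4, 3, 1, 2, 3, 4, 5, 4, 3, 1, 2, 3, 4, 5] 1⟩,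
   ⟨[0, 1, 2, 3, 4, 5], [36, 37, 38, 39, 40, 41, 42, 43, 44, 45, 46, 47, 48, 49, 50, 51, 52, 53, 54, 55, 56, 57, 58, 59, 60, 61, 62, 63, 64, 65, 66, 67, 68, 69, 70, 71], 4722366482800925736960, .bad [0, 1, 2, 0, 3, 1, 2, 0, 3, 2, 4, 3, 1, 2, 0, 3, 2, 4, 3, 1, 5, 4, 3, 1, 2, 0, 3, 2, 4, 3, 1, 5, 4, 3, 2, 0] 0⟩]

/-- Node 4. -/
def node4 : Node :=
  ⟨[0, 1, 2, 3, 4, 5], roots4, 4722366482869645213695, reps4, [0, 1, 2, 0, 3, 1, 2, 0, 3, 2, 4, 3, 1, 2, 0, 3, 2, 4, 3, 1, 5, 4, 3, 1, 2, 0, 3, 2, 4, 3, 1, 5, 4, 3, 2, 0], cases4_0 ++ cases4_1 ++ cases4_2 ++ cases4_3,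
    [(roots3, reps3), (roots2, reps2), (roots1, reps1), (roots0, reps0)]⟩

/-- The final products. -/
def final : List (List ℕ) := [[], [71], [68, 66], [55, 65, 67]]

/-- The moves to the final products. -/
def merges : List (List Move × ℕ) :=
  [([], 0),
   ([.refl 1, .refl 1], 1),
   ([.refl 1, .refl 5, .refl 4, .refl 3, .refl 1, .refl 2, .refl 3, .refl 4, .refl 4, .refl 3, .refl 2, .refl 1, .refl 3, .refl 4, .refl 5, .refl 3, .refl 2], 2),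
   ([.refl 0, .refl 1, .refl 2, .refl 0, .refl 3, .refl 1, .refl 2, .refl 3, .refl 4, .refl 3, .refl 2, .refl 0, .refl 5, .refl 4, .refl 4, .refl 5, .refl 0, .refl 2, .refl 3, .refl 4, .refl 3, .refl 0, .refl 2, .refl 1, .refl 3], 3),
   ([.refl 0, .refl 2, .refl 0, .refl 3, .refl 2, .conj [61, 53, 40, 52], .norm, .refl 2, .refl 1, .refl 3, .refl 4, .refl 5, .refl 2, .refl 1, .refl 3, .refl 4, .refl 0, .refl 2, .refl 3], 3)]

end Cfsg.Agent.Chev.Invol.E6
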